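import Groth.Agent.Models.H54.Proj
import Groth.Agent.Dix.HasBlow
import Groth.Agent.Dix.RegSurfLoc979
import Groth.Agent.Dix.MinimalUnique
import Groth.Agent.Dix.SurfBasic
import Groth.Agent.ArSurf.K482.AdjMain

/-!
# The blow-up of a closed point of the closed fibre of an arithmetic surface is an arithmetic surface;
it is projective over the surface, and has a canonical sheaf (helper880)
-/

set_option autoImplicit false
universe u

open AlgebraicGeometry CategoryTheory CategoryTheory.Limits IsLocalRing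
open Groth.Agent Groth.Agent.Dix.ExcPts Groth.Agent.Dix.MinusCurve Groth.Agent.Dix.PointIdeal

namespace K880.BlowSurf

variable {R : Type u} [CommRing R] [IsDomain R] [IsDiscreteValuationRing R]

/-- Closed points of a proper scheme over a discrete valuation ring lie over the closed point. -/
theorem asIdeal_ne_bot {X : Over (Spec (CommRingCat.of R))} [IsProper X.hom] (x : X.left)
    (hx : IsClosed ({x} : Set X.left)) : (X.hom x).asIdeal ≠ ⊥ := by
  have h1 : IsClosed ({X.hom x} : Set (Spec (CommRingCat.of R))) := by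
    have := X.hom.isClosedMap _ hx
    rwa [Set.image_singleton] at this
  have h2 : (X.hom x).asIdeal.IsMaximal := (PrimeSpectrum.isClosed_singleton_iff_isMaximal _).1 h1
  rw [IsLocalRing.eq_maximalIdeal h2]
  exact IsDiscreteValuationRing.not_a_field R

theorem isArithSurface_of_isRegSurf {X : Over (Spec (CommRingCat.of R))} (hX : IsRegSurf R X) :
    ArSurf.IsArithSurface R X := by
  have h1 := hX.isIntegral
  have h2 := hX.proper
  have h3 := hX.flat
  exact Models.H54.Proj.isArithSurface X hX.regular hX.dim fun x hx =>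
    Dix.RegSurfLoc979.ringKrullDim_stalk_eq_two hX x hx (asIdeal_ne_bot x hx)

theorem isRegSurf_blowUp {Y : Over (Spec (CommRingCat.of R))} (hY : IsRegSurf R Y)
    (y : Y.left) (hy : IsClosed ({y} : Set Y.left)) {X : Scheme.{u}} (f : X ⟶ Y.left)
    (hf : BlowUp.IsBlowUp f (pt y hy)) : IsRegSurf R (Over.mk (f ≫ Y.hom)) := by
  have hYi := hY.isIntegral
  have hYf := hY.flat
  have hYp := hY.proper
  have hdim := Dix.RegSurfLoc979.ringKrullDim_stalk_eq_two hY y hy (asIdeal_ne_bot y hy)
  obtain ⟨hWi, hW, hbir, hiso, hz⟩ := Dix.HasBlow.isSurf_blowUp (Dix.RChain.isSurf hY) y hy hdim f hf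
  have hp := hbir.proper
  refine ⟨hW.regular, hWi, ?_, ?_, ?_⟩
  · exact Dix.HasBlow.topologicalKrullDim_eq_two hW.dim hz
  · exact Dix.HasBlow.flat_blowUp Y.hom y hy (Dix.HasBlow.genericPoint_ne y hdim) f hbir.gen hf
  · change IsProper (f ≫ Y.hom)
    infer_instance

/-- **The blow-up is an arithmetic surface.** -/
theorem isArithSurface_blowUp {Y : Over (Spec (CommRingCat.of R))} (hY : ArSurf.IsArithSurface R Y)
    (y : Y.left) (hy : IsClosed ({y} : Set Y.left)) {X : Scheme.{u}} (f : X ⟶ Y.left)
    (hf : BlowUp.IsBlowUp f (pt y hy)) : ArSurf.IsArithSurface R (Over.mk (f ≫ Y.hom)) :=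
  isArithSurface_of_isRegSurf (isRegSurf_blowUp (Dix.MinimalUnique.isRegSurf_of_isArithSurface hY) y hy f hf)

/-- An arithmetic surface carries an ample invertible module. -/
theorem exists_isAmple {X : Over (Spec (CommRingCat.of R))} (hX : ArSurf.IsArithSurface R X) :
    ∃ L : X.left.Modules, CohB1.IsAmple L := by
  obtain ⟨n, i, hi, hw⟩ := hX.2.2.2.2
  exact (((Groth.Agent.S1496.result
    ⟨_, Groth.Agent.Ega2.Weight.isAmple_structureModule (Spec (CommRingCat.of R))⟩ X.hom).1.1 ⟨n, i, hi, hw⟩)).2

/-- A morphism of arithmetic surfaces is projective. -/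
theorem exists_embedding {X Y : Over (Spec (CommRingCat.of R))} (hX : ArSurf.IsArithSurface R X)
    (hY : ArSurf.IsArithSurface R Y) (f : X.left ⟶ Y.left) [IsProper f] :
    ∃ (m : ℕ) (j : X.left ⟶ CohB1.ProjSpaceOver m Y.left), IsClosedImmersion j ∧
      j ≫ CohB1.ProjSpaceOver.toBase m Y.left = f :=
  (Groth.Agent.S1496.result (exists_isAmple hY) f).1.2 ⟨inferInstance, exists_isAmple hX⟩

/-- A morphism between arithmetic surfaces has an invertible canonical sheaf. -/
theorem exists_canonical {X Y : Over (Spec (CommRingCat.of R))} (hX : ArSurf.IsArithSurface R X)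
    (hY : ArSurf.IsArithSurface R Y) (f : X.left ⟶ Y.left) [IsProper f] :
    ∃ ω : X.left.Modules, PicF.IsInvertible ω ∧ Canon.IsCanonical f ω := by
  obtain ⟨N, j, hj, hw⟩ := exists_embedding hX hY f
  have hXi := hX.2.1
  have hYi := hY.2.1
  have hYN : IsNoetherian Y.left := Dix.SurfBasic.isNoetherian hY
  have hsm : SmoothOfRelativeDimension N (CohB1.ProjSpaceOver.toBase N Y.left) := inferInstance
  have hsm' : Smooth (CohB1.ProjSpaceOver.toBase N Y.left) := SmoothOfRelativeDimension.smooth N _
  have hpr : IsProper (CohB1.ProjSpaceOver.toBase N Y.left) := Dix.ProjProper.isProper_toBase N _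
  have hN : IsLocallyNoetherian (CohB1.ProjSpaceOver N Y.left) :=
    LocallyOfFiniteType.isLocallyNoetherian (CohB1.ProjSpaceOver.toBase N Y.left)
  have hjr : Mor2.IsRegularClosedImmersion j := K482.Adj.regular_of_stalks j hX.1
    (K482.Adj.regular_of_smooth (CohB1.ProjSpaceOver.toBase N Y.left) hY.1)
  obtain ⟨c, hc⟩ := K482.Adj.exists_rank j hjr
  obtain ⟨ω, hω, h⟩ := K482.CanonVia.exists_via (i := j) (g := CohB1.ProjSpaceOver.toBase N Y.left) hc
    (Dual.H339.OmegaRank.isFinLocFreeOfRank_omega N _)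
  exact ⟨ω, hω, K482.CanonVia.canonical_of_via j _ hw (K482.ConComp.regImm_of_rank hjr hc) hsm h⟩

end K880.BlowSurf
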