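import Groth.Agent.S7922
import Groth.Agent.S7935
import Groth.Agent.S13306
import Groth.Agent.S13313
import Groth.Agent.S3223
import Groth.Agent.ArSurf.K880.BlowSurf
import Groth.Agent.Surf.K465.PicBlow
import Groth.Agent.Models.H65.PicDeg

/-!
# The canonical sheaf of the blow-up of a closed point of an arithmetic surface (helper880)

* `eq_one_of_pull_compl`: for a parafactorial pair `(X, Y)` restriction `Pic X → Pic (X ∖ Y)` is injective;
* `exists_zpow`: a canonical sheaf of the blow-up `f` is a power of the ideal of the exceptional divisor;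
* `main`: `ω_X ≅ f^* ω_Y ⊗ O(E)`, given the adjunction formula on `E`.
-/

set_option autoImplicit false
universe u

open AlgebraicGeometry CategoryTheory CategoryTheory.Limits IsLocalRing TopologicalSpace
open Groth.Agent Groth.Agent.Grpsch.PicGrp Groth.Agent.Dix.PointIdeal

namespace K880.CanBlow

theorem iso_of_restrict {U V : Scheme.{u}} (j : U ⟶ V) [IsOpenImmersion j] (h : ParaF.InvRestrictEquiv j)
    {L M : V.Modules} (hL : PicF.IsInvertible L) (hM : PicF.IsInvertible M)
    (e : Nonempty ((Scheme.Modules.restrictFunctor j).obj L ≅ (Scheme.Modules.restrictFunctor j).obj M)) :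
    Nonempty (L ≅ M) := by
  obtain ⟨e⟩ := e
  obtain ⟨a, ha⟩ := (h.1 L M hL hM).2 e.hom
  obtain ⟨b, hb⟩ := (h.1 M L hM hL).2 e.inv
  dsimp only at ha hb
  refine ⟨⟨a, b, ?_, ?_⟩⟩
  · apply (h.1 L L hL hL).1
    dsimp only
    rw [Functor.map_comp, ha, hb, e.hom_inv_id, CategoryTheory.Functor.map_id]
  · apply (h.1 M M hM hM).1
    dsimp only
    rw [Functor.map_comp, ha, hb, e.inv_hom_id, CategoryTheory.Functor.map_id]

theorem eq_one_of_pull {U V : Scheme.{u}} (j : U ⟶ V) [IsOpenImmersion j] (h : ParaF.InvRestrictEquiv j) (a : Pic V)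
    (ha : pull j a = 1) : a = 1 := by
  obtain ⟨L, hL, rfl⟩ := exists_mk a
  rw [pull_mk, mk_eq_one_iff] at ha
  obtain ⟨e⟩ := ha
  rw [mk_eq_one_iff]
  exact iso_of_restrict j h hL Fdesc.LocGen.isInvertible_structureModule
    ⟨(Scheme.Modules.restrictFunctorIsoPullback j).app L ≪≫ e ≪≫
      (CurvesA.HHMap.pullbackUnit j).symm ≪≫
      ((Scheme.Modules.restrictFunctorIsoPullback j).app (Coh.structureModule V)).symm⟩

/-- For a parafactorial pair `(X, Y)` restriction `Pic X → Pic (X ∖ Y)` is injective. -/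
theorem eq_one_of_pull_compl {X : Scheme.{u}} {Y : Closeds X} (h : ParaF.IsParafactorialPair X Y) (b : Pic X)
    (hb : pull (Scheme.Opens.ι Y.compl) b = 1) : b = 1 := by
  have h2 : pull (X.homOfLE (inf_le_left : (⊤ : X.Opens) ⊓ Y.compl ≤ ⊤)) (pull (⊤ : X.Opens).ι b) = 1 := by
    have he : (⊤ ⊓ Y.compl : X.Opens) ≤ Y.compl := inf_le_right
    rw [← pull_comp, Scheme.homOfLE_ι, ← X.homOfLE_ι he, pull_comp, hb, map_one]
  have h3 := eq_one_of_pull _ (h ⊤) _ h2
  have h4 : pull X.topIso.inv (pull X.topIso.hom b) = 1 := by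
    rw [Scheme.topIso_hom, h3, map_one]
  rwa [← pull_comp, Iso.inv_hom_id, pull_id] at h4

/-- The ideal of an effective Cartier divisor is trivial off the divisor. -/
theorem pull_ic_of_range {X W : Scheme.{u}} (D : X.IdealSheafData) (hD : BlowUp.IsEffCartierIdeal D) (j : W ⟶ X)
    [IsOpenImmersion j] (hj : Set.range j ⊆ (D.support : Set X)ᶜ) : pull j (K464.Base.ic D hD) = 1 := by
  have h0 := K455.PicLoc.genLocus_canSec D hD
  obtain ⟨e⟩ := Groth.Agent.S3223.trivial_of_isGen (Fdesc.LocGen.isGen_sec_genLocus (Dix.Cast5.canSec D))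
  have hr : Set.range j ⊆ Set.range (CohB1.genLocus _ (Dix.Cast5.canSec D)).ι := by
    rw [Scheme.Opens.range_ι, h0]
    exact hj
  have h1 : pull (CohB1.genLocus _ (Dix.Cast5.canSec D)).ι (K464.Base.ic D hD)⁻¹ = 1 := by
    rw [K464.Base.ic, inv_mk, pull_mk, mk_eq_one_iff]
    exact ⟨((Scheme.Modules.restrictFunctorIsoPullback _).app _).symm ≪≫ e⟩
  rw [map_inv, inv_eq_one] at h1
  rw [← IsOpenImmersion.lift_fac (CohB1.genLocus _ (Dix.Cast5.canSec D)).ι j hr, pull_comp, h1, map_one]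

variable {R : Type u} [CommRing R] [IsDomain R] [IsDiscreteValuationRing R]

/-- A canonical sheaf of the blow-up `f` of a closed point of an arithmetic surface is a power of the ideal of the
exceptional divisor. -/
theorem exists_zpow {Y : Over (Spec (CommRingCat.of R))} (hY : ArSurf.IsArithSurface R Y)
    (y : Y.left) (hy : IsClosed ({y} : Set Y.left)) {X : Scheme.{u}} (f : X ⟶ Y.left)
    (hf : BlowUp.IsBlowUp f (pt y hy)) {ω : X.Modules} (hω : PicF.IsInvertible ω) (hcan : Canon.IsCanonical f ω) :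
    ∃ n : ℤ, mk ω hω = K464.Base.ic ((pt y hy).comap f) hf.1 ^ n := by
  have hpY : IsProper Y.hom := Dix.SurfBasic.isProper hY
  have hYi := hY.2.1
  have hNY := Dix.SurfBasic.isNoetherian hY
  have hrs := Dix.MinimalUnique.isRegSurf_of_isArithSurface hY
  have hreg : IsRegularLocalRing (Y.left.presheaf.stalk y) := hY.1 y
  have hdim : ringKrullDim (Y.left.presheaf.stalk y) = 2 :=
    Dix.RegSurfLoc979.ringKrullDim_stalk_eq_two hrs y hy (BlowSurf.asIdeal_ne_bot y hy)
  have hX := BlowSurf.isArithSurface_blowUp hY y hy f hf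
  have hXi : IsIntegral X := hX.2.1
  have hNX : IsNoetherian X := Dix.SurfBasic.isNoetherian hX
  have hpf : IsProper f := K455.BlowDim.isProper_blowUp f y hy hf
  obtain ⟨m, j, hj, hjw⟩ := BlowSurf.exists_embedding hX hY f
  -- the exceptional divisor is integral
  have hDi : IsIntegral ((pt y hy).comap f).subscheme := by
    obtain ⟨i, hi, hker, -⟩ := K480.ExcCurve2.exists_curve' f y hy hdim hf
    have h1 : i.ker = ((pt y hy).comap f).subschemeι.ker := by rw [Scheme.IdealSheafData.ker_subschemeι, hker]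
    have h2 := IsClosedImmersion.isIso_lift ((pt y hy).comap f).subschemeι i h1.symm
    have h3 : Nonempty ((pt y hy).comap f).subscheme :=
      ⟨(IsClosedImmersion.lift ((pt y hy).comap f).subschemeι i h1.symm.le) (Classical.arbitrary _)⟩
    exact isIntegral_of_isOpenImmersion (inv (IsClosedImmersion.lift ((pt y hy).comap f).subschemeι i h1.symm.le))
  have hne : ∃ z : X, f z ≠ y := by
    obtain ⟨_hint, hbir, -⟩ := Dix.ExcPts.isBir_blowUp f y hy (Dix.HasBlow.genericPoint_ne y hdim) hf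
    exact ⟨genericPoint X, by rw [hbir.gen]; exact Dix.HasBlow.genericPoint_ne y hdim⟩
  have hpar := K465.PicBlow.isParafactorialPair y hy hdim
  obtain ⟨b, n, hb⟩ := K465.PicBlow.exists_pull_mul f y hy hf hpar hne (mk ω hω)
  refine ⟨n, ?_⟩
  let U : Y.left.Opens := K455.BlowDim.compl y hy
  have hiso : IsIso (f ∣_ U) := K455.BlowDim.isIso_restrict f y hy hf
  -- `ω` is trivial off the exceptional divisor
  have hfac : (f ⁻¹ᵁ U).ι ≫ f = (f ∣_ U) ≫ U.ι := (morphismRestrict_ι f U).symm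
  have hoi : IsOpenImmersion ((f ⁻¹ᵁ U).ι ≫ f) := by rw [hfac]; infer_instance
  have hs : SmoothOfRelativeDimension 0 ((f ⁻¹ᵁ U).ι ≫ f) := inferInstance
  have h1 : Canon.IsTopDiff ((f ⁻¹ᵁ U).ι ≫ f) 0 ((Scheme.Modules.pullback (f ⁻¹ᵁ U).ι).obj ω) :=
    Groth.Agent.S13313.result X Y.left f ⟨m, j, inferInstance, hjw⟩ ω hcan (f ⁻¹ᵁ U) 0
  have h2 : pull (f ⁻¹ᵁ U).ι (mk ω hω) = 1 := by
    rw [pull_mk, mk_eq_one_iff]
    exact Sga67.TensorOps.nonempty_iso_of_isExtPow (Iso.refl _) h1 (Sga67.TensorOps.isExtPow_zero _)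
  have h3 : pull (f ⁻¹ᵁ U).ι (K464.Base.ic ((pt y hy).comap f) hf.1) = 1 := by
    refine pull_ic_of_range _ hf.1 _ ?_
    rw [Scheme.Opens.range_ι, Scheme.IdealSheafData.support_comap]
    intro z hz hz'
    exact hz ((mem_support_pt y hy _).1 hz')
  have h4 : pull (f ⁻¹ᵁ U).ι (pull f b) = 1 := by
    rw [hb, map_mul, map_zpow, h3, one_zpow, mul_one] at h2
    exact h2
  rw [← pull_comp, hfac, pull_comp] at h4
  have h5 : pull (Scheme.Opens.ι U) b = 1 := by
    have h6 := congrArg (pull (inv (f ∣_ U))) h4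
    rwa [map_one, ← pull_comp, IsIso.inv_hom_id, pull_id] at h6
  have h7 : b = 1 := eq_one_of_pull_compl hpar b h5
  rw [hb, h7, map_one, one_mul]

/-- **The canonical sheaf of the blow-up**, given the adjunction formula. -/
theorem main (Y : Over (Spec (CommRingCat.of R))) (hY : ArSurf.IsArithSurface R Y)
    (y : Y.left) (hy : IsClosed ({y} : Set Y.left)) (hys : Y.hom.base y = IsLocalRing.closedPoint R)
    {X : Scheme.{u}} (f : X ⟶ Y.left) (hf : BlowUp.IsBlowUp f (pt y hy))
    (E : ArSurf.VertComp R (Over.mk (f ≫ Y.hom)))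
    (hE : Set.range (E.ι.base : E.curve.left → X) = f.base ⁻¹' {y})
    (L : X.Modules) (hL : ClSub.IsInverseOf L (ClSub.idealMod E.ι.ker))
    (ωY : Y.left.Modules) (hωY : Canon.IsCanonical Y.hom ωY)
    (ωX : X.Modules) (hωX : Canon.IsCanonical (f ≫ Y.hom) ωX)
    (hadj : ArSurf.inter R (Over.mk (f ≫ Y.hom)) L E + ArSurf.inter R (Over.mk (f ≫ Y.hom)) ωX E =
      -2 * FGA.eulerCharLE (IsLocalRing.ResidueField R) E.curve.left (Coh.structureModule E.curve.left) 1) :
    Nonempty (ωX ≅ CohB1.tensorMod ((Scheme.Modules.pullback f).obj ωY) L) := by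
  have hpY : IsProper Y.hom := Dix.SurfBasic.isProper hY
  have hYi := hY.2.1
  have hNY := Dix.SurfBasic.isNoetherian hY
  have hX := BlowSurf.isArithSurface_blowUp hY y hy f hf
  have hp : IsProper (Over.mk (f ≫ Y.hom)).hom := Dix.SurfBasic.isProper hX
  have hpf : IsProper f := K455.BlowDim.isProper_blowUp f y hy hf
  have hreg : IsRegularLocalRing (Y.left.presheaf.stalk y) := hY.1 y
  have hdim : ringKrullDim (Y.left.presheaf.stalk y) = 2 :=
    Dix.RegSurfLoc979.ringKrullDim_stalk_eq_two (Dix.MinimalUnique.isRegSurf_of_isArithSurface hY) y hy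
      (BlowSurf.asIdeal_ne_bot y hy)
  obtain ⟨m, j, hj, hjw⟩ := BlowSurf.exists_embedding hX hY f
  obtain ⟨ω, hω, hcan⟩ := BlowSurf.exists_canonical hX hY f
  obtain ⟨m', j', hj', hjw'⟩ := hY.2.2.2.2
  obtain ⟨e⟩ := Groth.Agent.S13306.result X Y.left (Spec (CommRingCat.of R)) f Y.hom ⟨m, j, inferInstance, hjw⟩
    ⟨m', j', inferInstance, hjw'⟩ ω ωY ωX hcan hωY hωX
  have hYinv := K482.CanonVia.isInvertible_canonical hωY
  have hYinv' := Fdesc.LocGen.isInvertible_pullback f hYinv
  obtain ⟨hLinv, hIinv⟩ := Dix.IdealModCartier.isInvertible_of_isInverseOf hL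
  obtain ⟨n, hn⟩ := exists_zpow hY y hy f hf hω hcan
  -- numbers
  obtain ⟨hexc, -, -, hLE⟩ := Groth.Agent.S7922.result R Y hY y hy hys f hf E hE L hL
  obtain ⟨hh1, -⟩ := Models.H50.ExcNum.exc_numbers E hexc hL
  have hpos := Models.H45.WDeg.wdeg_pos E
  have hχ : FGA.eulerCharLE (IsLocalRing.ResidueField R) E.curve.left (Coh.structureModule E.curve.left) 1 =
      (Models.wdeg R (Over.mk (f ≫ Y.hom)) E : ℤ) := by
    have h0 : Module.finrank (IsLocalRing.ResidueField R)
        (Coh.HH E.curve.left (Coh.structureModule E.curve.left) 1) = 0 := hh1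
    rw [FGA.eulerCharLE, Finset.sum_range_succ, Finset.sum_range_one, h0]
    simp [Models.wdeg]
  have hzero : ArSurf.inter R (Over.mk (f ≫ Y.hom)) ((Scheme.Modules.pullback f).obj ωY) E = 0 := by
    refine Groth.Agent.S7935.result R (Over.mk (f ≫ Y.hom)) Y hX hY (Over.homMk f rfl) ?_ E y ?_ ωY hYinv
    · have hNX : IsIntegral X := hX.2.1
      obtain ⟨_hint, hbir, -⟩ := Dix.ExcPts.isBir_blowUp f y hy (Dix.HasBlow.genericPoint_ne y hdim) hf
      intro q
      have h1 : q ∈ closure ({genericPoint Y.left} : Set Y.left) := by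
        rw [genericPoint_closure]; trivial
      refine closure_mono ?_ h1
      rintro _ rfl
      exact ⟨genericPoint X, hbir.gen⟩
    · ext q
      constructor
      · rintro ⟨a, rfl⟩
        have h1 : E.ι a ∈ f.base ⁻¹' {y} := by rw [← hE]; exact ⟨a, rfl⟩
        exact h1
      · rintro rfl
        obtain ⟨a⟩ : Nonempty E.curve.left := inferInstance
        have h1 : E.ι a ∈ f.base ⁻¹' {q} := by rw [← hE]; exact ⟨a, rfl⟩
        exact ⟨a, h1⟩
  have hsum : ArSurf.inter R (Over.mk (f ≫ Y.hom)) ωX E = ArSurf.inter R (Over.mk (f ≫ Y.hom)) ω E + 0 := by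
    rw [← hzero, Models.H65.PicDeg.inter_congr (X := Over.mk (f ≫ Y.hom)) e E]
    exact Models.H65.PicDeg.inter_tensor (X := Over.mk (f ≫ Y.hom)) hω hYinv' E
  -- the ideal of `E`
  have hker : E.ι.ker = (pt y hy).comap f := by
    obtain ⟨i, hi, hker, -⟩ := K480.ExcCurve2.exists_curve' f y hy hdim hf
    have hrange : Set.range i = Set.range E.ι := by
      have h1 : Set.range i = (i.ker.support : Set X) := by
        rw [Scheme.Hom.support_ker, i.isClosedEmbedding.isClosed_range.closure_eq]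
      rw [h1, hker]
      refine Eq.trans ?_ hE.symm
      rw [Scheme.IdealSheafData.support_comap]
      ext x
      change f x ∈ (pt y hy).support ↔ _
      rw [mem_support_pt]
      rfl
    obtain ⟨e, he⟩ := K480.ExcRec.exists_iso_of_range_eq i E.ι hrange
    rw [← hker, ← he]
    exact (Scheme.Hom.ker_comp_of_isIso _ _).symm
  have hEeff : BlowUp.IsEffCartierIdeal E.ι.ker := hexc.1
  have hic : K464.Base.ic ((pt y hy).comap f) hf.1 = (mk L hLinv)⁻¹ := by
    rw [K464.Base.mk_eq_ic_inv hL hLinv hEeff, inv_inv]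
    exact K464.Base.ic_congr _ _ hker.symm
  have hdegω : ArSurf.inter R (Over.mk (f ≫ Y.hom)) ω E =
      n * (Models.wdeg R (Over.mk (f ≫ Y.hom)) E : ℤ) := by
    rw [hic] at hn
    have h1 := congrArg (Models.H65.PicDeg.deg (X := Over.mk (f ≫ Y.hom)) E) hn
    rw [Models.H65.PicDeg.deg_zpow, Models.H65.PicDeg.deg_inv] at h1
    rw [Models.H65.PicDeg.deg_mk, Models.H65.PicDeg.deg_mk] at h1
    rw [h1, hLE, neg_neg]
  have hn1 : n = -1 := by
    rw [hLE, hsum, hdegω, hχ, add_zero] at hadj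
    have h2 : (n + 1) * (Models.wdeg R (Over.mk (f ≫ Y.hom)) E : ℤ) = 0 := by linarith
    rcases mul_eq_zero.1 h2 with h3 | h3
    · linarith
    · exfalso
      have : (0 : ℤ) < (Models.wdeg R (Over.mk (f ≫ Y.hom)) E : ℤ) := by exact_mod_cast hpos
      omega
  have hωL : mk ω hω = mk L hLinv := by rw [hn, hn1, hic, zpow_neg, zpow_one, inv_inv]
  obtain ⟨e2⟩ := (mk_eq_iff _ _).1 hωL
  exact K482.TensCalc.trans ⟨e⟩ (K482.TensCalc.trans (K482.TensCalc.congr ⟨e2⟩ ⟨Iso.refl _⟩)
    (K482.TensCalc.comm _ _))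

end K880.CanBlow
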